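import Cfsg.Agent.ChevalleyStructure.Elts
import Cfsg.Agent.S1025
import Cfsg.Agent.S1030
import Cfsg.Agent.SignalizersComponents.SLQuasisimple
import Cfsg.Agent.H517.NSC
import Cfsg.Prelude.Def_LieTypeChar

/-!
# Nonsolvable involution centralizers in the Chevalley groups of exceptional type, characteristic 2 (helper517)

For a tabulated datum `D` and a field of characteristic 2: if the root `r` is orthogonal to the roots `±a, ±b, ±c`
of a subsystem of type `A₂` (`c = a + b`), then `x_r(1)` is an involution centralising the group generated by the six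
elements `x_{±a}(1)`, `x_{±b}(1)`, `x_{±c}(1)`, each of which is a commutator of two others.
-/

set_option autoImplicit false

namespace Cfsg.Agent.H517.ExcTwo

open Subgroup Cfsg.Lie Cfsg.Lie.ChevalleyDatum Cfsg.Agent.ChevalleyStructure.Elts
open scoped commutatorElement

universe u

variable {F : Type u} [Field F] {D : ChevalleyDatum}

/-- the commutator formula for the pair `(r, s)` has no term -/
def okComm (D : ChevalleyDatum) (r s : ℕ) : Bool :=
  decide (r < D.nroots) && decide (s < D.nroots) && decide (s ≠ r) && decide (s ≠ D.neg r) &&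
    decide (D.commTerms r s = [])

/-- the commutator formula for the pair `(r, s)` has the only term `x_k(± t u)` -/
def okOne (D : ChevalleyDatum) (r s k : ℕ) : Bool :=
  decide (r < D.nroots) && decide (s < D.nroots) && decide (s ≠ r) && decide (s ≠ D.neg r) &&
    (decide (D.commTerms r s = [(k, 1, 1, 1)]) || decide (D.commTerms r s = [(k, -1, 1, 1)]))

theorem comm_gen (hD : InList D) {r s : ℕ} (hr : r < D.nroots) (hs : s < D.nroots) (h1 : s ≠ r)
    (h2 : s ≠ D.neg r) (t u : F) :
    xG hD s u * xG hD r t = xG hD r t * xG hD s u * wordG hD (D.commWord F r s t u) := by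
  apply Units.ext
  rw [Units.val_mul, Units.val_mul, Units.val_mul, coe_xG, coe_xG, coe_wordG]
  exact Cfsg.Agent.S1025.result D hD r s hr hs h1 h2 t u

theorem comm_of_ok (hD : InList D) {r s : ℕ} (h : okComm D r s = true) (t u : F) :
    xG hD s u * xG hD r t = xG hD r t * xG hD s u := by
  simp only [okComm, Bool.and_eq_true, decide_eq_true_eq] at h
  obtain ⟨⟨⟨⟨hr, hs⟩, h1⟩, h2⟩, h3⟩ := h
  rw [comm_gen hD hr hs h1 h2, commWord, h3, List.map_nil, wordG_nil, mul_one]

theorem neg_one_eq [CharP F 2] : (-1 : F) = 1 := CharTwo.neg_eq 1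

theorem comm_of_one [CharP F 2] (hD : InList D) {r s k : ℕ} (h : okOne D r s k = true) :
    xG hD s (1 : F) * xG hD r 1 = xG hD r 1 * xG hD s 1 * xG hD k 1 := by
  simp only [okOne, Bool.and_eq_true, Bool.or_eq_true, decide_eq_true_eq] at h
  obtain ⟨⟨⟨⟨hr, hs⟩, h1⟩, h2⟩, h3⟩ := h
  rw [comm_gen hD hr hs h1 h2]
  congr 1
  rcases h3 with h3 | h3
  · rw [commWord, h3, List.map_cons, List.map_nil, wordG_cons, wordG_nil, mul_one]
    simp [neg_one_eq]
  · rw [commWord, h3, List.map_cons, List.map_nil, wordG_cons, wordG_nil, mul_one]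
    simp [neg_one_eq]

theorem sq_one [CharP F 2] (hD : InList D) (r : ℕ) (t : F) : xG hD r t * xG hD r t = 1 := by
  rw [xG_add, CharTwo.add_self_eq_zero, xG_zero]

/-- `x_k(1)` is a commutator of `x_r(1)` and `x_s(1)` -/
theorem mem_comm_of_one [CharP F 2] (hD : InList D) {r s k : ℕ} (h : okOne D r s k = true)
    {K : Subgroup (GL D.Idx F)} (hr : xG hD r (1 : F) ∈ K) (hs : xG hD s (1 : F) ∈ K) :
    xG hD k (1 : F) ∈ ⁅K, K⁆ := by
  have h1 := comm_of_one (F := F) hD h
  have h2 : xG hD k (1 : F) = ⁅(xG hD s (1 : F))⁻¹, (xG hD r (1 : F))⁻¹⁆ := by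
    rw [commutatorElement_def, inv_inv, inv_inv]
    have h3 : xG hD k (1 : F) = (xG hD r 1 * xG hD s 1)⁻¹ * (xG hD s (1 : F) * xG hD r 1) := by
      rw [h1]; group
    rw [h3]
    group
  rw [h2]
  exact commutator_mem_commutator (inv_mem hs) (inv_mem hr)

/-- the tables needed -/
def okFrame (D : ChevalleyDatum) (r a b c a' b' c' : ℕ) : Bool :=
  okOne D a b c && okOne D a' b' c' && okOne D c b' a && okOne D c' b a' && okOne D c a' b && okOne D c' a b' &&
    okComm D r a && okComm D r b && okComm D r c && okComm D r a' && okComm D r b' && okComm D r c'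

theorem nsc_of_frame [CharP F 2] (hD : InList D) {r a b c a' b' c' : ℕ}
    (h : okFrame D r a b c a' b' c' = true) : NSC (D.group F) := by
  simp only [okFrame, Bool.and_eq_true] at h
  obtain ⟨⟨⟨⟨⟨⟨⟨⟨⟨⟨⟨h1, h2⟩, h3⟩, h4⟩, h5⟩, h6⟩, ha⟩, hb⟩, hc⟩, ha'⟩, hb'⟩, hc'⟩ := h
  have hr : r < D.nroots := by
    simp only [okComm, Bool.and_eq_true, decide_eq_true_eq] at ha
    exact ha.1.1.1.1
  have hlt : a < D.nroots := by
    simp only [okComm, Bool.and_eq_true, decide_eq_true_eq] at ha
    exact ha.1.1.1.2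
  set S : Set (GL D.Idx F) := {xG hD a 1, xG hD b 1, xG hD c 1, xG hD a' 1, xG hD b' 1, xG hD c' 1} with hS
  set K : Subgroup (GL D.Idx F) := closure S with hK
  have mem : ∀ x ∈ S, x ∈ K := fun x hx => subset_closure hx
  have ma : xG hD a 1 ∈ K := mem _ (by simp [hS])
  have mb : xG hD b 1 ∈ K := mem _ (by simp [hS])
  have mc : xG hD c 1 ∈ K := mem _ (by simp [hS])
  have ma' : xG hD a' 1 ∈ K := mem _ (by simp [hS])
  have mb' : xG hD b' 1 ∈ K := mem _ (by simp [hS])
  have mc' : xG hD c' 1 ∈ K := mem _ (by simp [hS])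
  have hKs : ¬ Group.IsSolvable K := by
    apply not_isSolvable_of_gen
    · refine ⟨xG hD a 1, by simp [hS], ?_⟩
      rw [Ne, xG_eq_one_iff hD hlt]
      exact one_ne_zero
    · rintro x (rfl | rfl | rfl | rfl | rfl | rfl)
      · exact mem_comm_of_one hD h3 mc mb'
      · exact mem_comm_of_one hD h5 mc ma'
      · exact mem_comm_of_one hD h1 ma mb
      · exact mem_comm_of_one hD h4 mc' mb
      · exact mem_comm_of_one hD h6 mc' ma
      · exact mem_comm_of_one hD h2 ma' mb'
  have hKG : K ≤ D.group F := by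
    rw [hK, closure_le]
    rintro x (rfl | rfl | rfl | rfl | rfl | rfl) <;> exact xG_mem_group hD _ _
  have hKc : K ≤ centralizer ({xG hD r 1} : Set (GL D.Idx F)) := by
    rw [hK, closure_le]
    rintro x (rfl | rfl | rfl | rfl | rfl | rfl) <;> refine mem_centralizer_singleton_iff.2 ?_
    · exact comm_of_ok hD ha 1 1
    · exact comm_of_ok hD hb 1 1
    · exact comm_of_ok hD hc 1 1
    · exact comm_of_ok hD ha' 1 1
    · exact comm_of_ok hD hb' 1 1
    · exact comm_of_ok hD hc' 1 1
  refine NSC.of_hom (t := (⟨xG hD r 1, xG_mem_group hD r 1⟩ : D.group F)) ?_ ?_ (Subgroup.inclusion hKG) hKs ?_ ?_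
  · intro h
    have h' := congrArg Subtype.val h
    rw [Subgroup.coe_one, xG_eq_one_iff hD hr] at h'
    exact one_ne_zero h'
  · apply Subtype.ext
    exact sq_one hD r 1
  · rw [(MonoidHom.ker_eq_bot_iff _).2 (Subgroup.inclusion_injective hKG)]
    exact Group.isSolvable_of_comm (fun a b => Subsingleton.elim _ _)
  · intro x
    apply Subtype.ext
    exact mem_centralizer_singleton_iff.1 (hKc x.2)

theorem nsc_f4 {F : Type u} [Field F] [CharP F 2] : NSC (chevF4.group F) :=
  nsc_of_frame (D := chevF4) (r := 33) (a := 25) (b := 24) (c := 26) (a' := 22) (b' := 23) (c' := 21)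
    (by simp) (by decide +kernel)

theorem nsc_e6 {F : Type u} [Field F] [CharP F 2] : NSC (chevE6.group F) :=
  nsc_of_frame (D := chevE6) (r := 56) (a := 46) (b := 39) (c := 47) (a' := 25) (b' := 32) (c' := 24)
    (by simp) (by decide +kernel)

theorem nsc_e7 {F : Type u} [Field F] [CharP F 2] : NSC (chevE7.group F) :=
  nsc_of_frame (D := chevE7) (r := 93) (a := 78) (b := 69) (c := 79) (a' := 47) (b' := 56) (c' := 46)
    (by simp) (by decide +kernel)

theorem nsc_e8 {F : Type u} [Field F] [CharP F 2] : NSC (chevE8.group F) :=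
  nsc_of_frame (D := chevE8) (r := 162) (a := 141) (b := 130) (c := 142) (a' := 98) (b' := 109) (c' := 97)
    (by simp) (by decide +kernel)

/-- the image of a perfect group under a nontrivial homomorphism is not solvable -/
theorem not_isSolvable_range {Q G : Type*} [Group Q] [Group G] (hQ : commutator Q = ⊤) (f : Q →* G)
    (hf : ∃ x, f x ≠ 1) : ¬ Group.IsSolvable f.range := by
  apply not_isSolvable_of_le_commutator
  · rw [MonoidHom.range_eq_map, ← Subgroup.map_commutator, ← commutator_def, hQ]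
  · intro h
    obtain ⟨x, hx⟩ := hf
    apply hx
    have : f x ∈ f.range := ⟨x, rfl⟩
    rwa [h, mem_bot] at this

theorem nsc_of_sl2 [CharP F 2] (hF : 4 ≤ Nat.card F) (hD : InList D) {r p : ℕ} (h1 : okComm D r p = true)
    (h2 : okComm D r (D.neg p) = true) : NSC (D.group F) := by
  have hr : r < D.nroots := by
    simp only [okComm, Bool.and_eq_true, decide_eq_true_eq] at h1
    exact h1.1.1.1.1
  have hp : p < D.nroots := by
    simp only [okComm, Bool.and_eq_true, decide_eq_true_eq] at h1
    exact h1.1.1.1.2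
  obtain ⟨φ, hφ, hφ2⟩ := Cfsg.Agent.S1030.result (F := F) D hD p hp
  have hns : ¬ Group.IsSolvable φ.range := by
    apply not_isSolvable_range
    · exact (SignalizersComponents.SLQuasisimple.isQuasisimple_two hF).1.commutator_eq_top
    · refine ⟨⟨!![1, 1; 0, 1], by simp [Matrix.det_fin_two]⟩, ?_⟩
      intro h
      have h3 := (hφ2 ⟨!![1, 1; 0, 1], by simp [Matrix.det_fin_two]⟩ 1).1 rfl
      rw [h] at h3
      have h4 := (x_eq_one_iff (F := F) hD hp 1).1 h3.symm
      exact one_ne_zero h4
  have hKG : φ.range ≤ D.group F := by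
    rw [hφ, sup_le_iff, rootSubgroup_eq_range hD, rootSubgroup_eq_range hD]
    constructor
    · rintro _ ⟨t, rfl⟩
      exact xG_mem_group hD _ _
    · rintro _ ⟨t, rfl⟩
      exact xG_mem_group hD _ _
  have hKc : φ.range ≤ centralizer ({xG hD r 1} : Set (GL D.Idx F)) := by
    rw [hφ, sup_le_iff, rootSubgroup_eq_range hD, rootSubgroup_eq_range hD]
    constructor
    · rintro _ ⟨t, rfl⟩
      exact mem_centralizer_singleton_iff.2 (comm_of_ok hD h1 _ _)
    · rintro _ ⟨t, rfl⟩
      exact mem_centralizer_singleton_iff.2 (comm_of_ok hD h2 _ _)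
  refine NSC.of_hom (t := (⟨xG hD r 1, xG_mem_group hD r 1⟩ : D.group F)) ?_ ?_ (Subgroup.inclusion hKG) hns ?_ ?_
  · intro h
    have h' := congrArg Subtype.val h
    rw [Subgroup.coe_one, xG_eq_one_iff hD hr] at h'
    exact one_ne_zero h'
  · apply Subtype.ext
    exact sq_one hD r 1
  · rw [(MonoidHom.ker_eq_bot_iff _).2 (Subgroup.inclusion_injective hKG)]
    exact Group.isSolvable_of_comm (fun a b => Subsingleton.elim _ _)
  · intro x
    apply Subtype.ext
    exact mem_centralizer_singleton_iff.1 (hKc x.2)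

theorem nsc_g2 {F : Type u} [Field F] [CharP F 2] (hF : 4 ≤ Nat.card F) : NSC (chevG2.group F) :=
  nsc_of_sl2 (D := chevG2) (r := 11) (p := 7) hF (by simp) (by decide +kernel) (by decide +kernel)

end Cfsg.Agent.H517.ExcTwo
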