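import Cfsg.Agent.ChevalleyStructure.F4Fixed
import Cfsg.Agent.H517.ExcTwo

/-!
# Nonsolvable involution centralizers in the groups `²F₄(q)`, `q ≥ 8` (helper517)

`t = x_2(1) x_8(1)` (a short and a long root orthogonal to `±p₁` and `±p₄`) commutes with the group `SL₂(q)`
generated by the elements `x_{±p₁}(u^θ) x_{±p₄}(u)`.
-/

set_option autoImplicit false

namespace Cfsg.Agent.H517.TwFTwo

open Subgroup Cfsg.Lie Cfsg.Lie.ChevalleyDatum Cfsg.Agent.ChevalleyStructure.Elts
open Cfsg.Agent.ChevalleyStructure.Sparse Cfsg.Agent.ChevalleyStructure.SparseHDiag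
open Cfsg.Agent.ChevalleyStructure.FixTables Cfsg.Agent.ChevalleyStructure.SparseWordEq
open Cfsg.Agent.H517.ExcTwo
open scoped commutatorElement

noncomputable section

theorem hF4 : InList chevF4 := by simp

/-- letters with coefficient one -/
def ones (w : List ℕ) : List (Letter (ℕ × ℕ)) := w.map fun r => ⟨r, (0, 0), 1⟩

def chk (v w : List ℕ) : Bool := wordEqCheck chevF4 (opsNN 2) (0, 0) (ones v) (ones w)

/-- `x_s(u)` commutes with `x_a(1) x_b(1)` -/
def chk1 (a b s : ℕ) : Bool :=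
  wordEqCheck chevF4 (opsNN 2) (0, 0) [⟨a, (0, 0), 1⟩, ⟨b, (0, 0), 1⟩, ⟨s, (1, 0), 1⟩]
    [⟨s, (1, 0), 1⟩, ⟨a, (0, 0), 1⟩, ⟨b, (0, 0), 1⟩]

def u₀ : List ℕ := [28, 30]
def v₀ : List ℕ := [19, 17]
def n₂ : List ℕ := [28, 30, 19, 17, 28, 30, 19, 17, 28, 30]
def n₁ : List ℕ := [33, 14, 33, 24, 23, 24]

set_option maxRecDepth 100000 in
theorem chk_a : chk (n₂ ++ [14, 23]) ([10, 15] ++ n₂) = true := by decide +kernel
theorem chk_b : chk (n₁ ++ [10, 15]) ([4, 9] ++ n₁) = true := by decide +kernel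
theorem chk_c : chk (n₂ ++ [4, 9]) ([2, 8] ++ n₂) = true := by decide +kernel
theorem chk_h : chk n₁ [33, 24, 14, 23, 33, 24] = true := by decide +kernel
theorem chk_i : chk ([2, 8] ++ [2, 8]) [] = true := by decide +kernel
theorem chk_d : chk1 2 8 33 = true := by decide +kernel
theorem chk_e : chk1 2 8 24 = true := by decide +kernel
theorem chk_f : chk1 2 8 14 = true := by decide +kernel
theorem chk_g : chk1 2 8 23 = true := by decide +kernel

end

section
variable {K : Type*} [Field K] [CharP K 2]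

omit [CharP K 2] in
/-- the product of the `x_r(1)` -/
theorem toWord_ones (h2 : ((2 : ℤ) : K) = 0) (w : List ℕ) :
    toWord (evNN h2 (1 : K) 1) (ones w) = w.map fun r => (r, (1 : K)) := by
  unfold toWord ones
  rw [List.map_map]
  apply List.map_congr_left
  intro r _
  simp [evNN]

variable (K) in
/-- the product of the `x_r(1)`, `r` in the list -/
noncomputable def pr (w : List ℕ) : GL chevF4.Idx K := wordG hF4 (w.map fun r => (r, (1 : K)))

omit [CharP K 2] in
theorem pr_append (v w : List ℕ) : pr K (v ++ w) = pr K v * pr K w := by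
  unfold pr
  rw [List.map_append, wordG_append]

theorem two_zero : ((2 : ℤ) : K) = 0 := by
  have := CharP.cast_eq_zero K 2
  exact_mod_cast this

theorem pr_eq {v w : List ℕ} (h : chk v w = true) : pr K v = pr K w := by
  have h1 := wordMat_eq_of_check h (evNN (two_zero (K := K)) (1 : K) 1) (evNN_zero two_zero 1 1)
  rw [toWord_ones, toWord_ones] at h1
  apply Units.ext
  rw [pr, pr, coe_wordG, coe_wordG]
  exact h1

omit [CharP K 2] in
theorem pr_two (a b : ℕ) : pr K [a, b] = xG hF4 a 1 * xG hF4 b 1 := by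
  unfold pr
  rw [List.map_cons, List.map_cons, List.map_nil, wordG_cons, wordG_cons, wordG_nil, mul_one]

theorem comm_of_chk1 {a b s : ℕ} (h : chk1 a b s = true) (u : K) :
    xG hF4 s u * pr K [a, b] = pr K [a, b] * xG hF4 s u := by
  have h1 := wordMat_eq_of_check h (evNN (two_zero (K := K)) u 1) (evNN_zero two_zero u 1)
  have e1 : toWord (evNN (two_zero (K := K)) u 1) [⟨a, (0, 0), 1⟩, ⟨b, (0, 0), 1⟩, ⟨s, (1, 0), 1⟩] =
    [(a, 1), (b, 1), (s, u)] := by simp [toWord, evNN]
  have e2 : toWord (evNN (two_zero (K := K)) u 1) [⟨s, (1, 0), 1⟩, ⟨a, (0, 0), 1⟩, ⟨b, (0, 0), 1⟩] =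
    [(s, u), (a, 1), (b, 1)] := by simp [toWord, evNN]
  rw [e1, e2] at h1
  have h2 : wordG hF4 [(a, (1 : K)), (b, 1), (s, u)] = wordG hF4 [(s, u), (a, 1), (b, 1)] := by
    apply Units.ext
    rw [coe_wordG, coe_wordG]
    exact h1
  rw [wordG_cons, wordG_cons, wordG_cons, wordG_cons, wordG_cons, wordG_cons, wordG_nil, mul_one, mul_one] at h2
  rw [pr_two, ← h2, mul_assoc]

theorem pair_conj {g : List ℕ} {a b c d : ℕ} (hc : chk (g ++ [a, b]) ([c, d] ++ g) = true)
    {T : Subgroup (GL chevF4.Idx K)} (hg : pr K g ∈ T) (ha : pr K [a, b] ∈ T) : pr K [c, d] ∈ T := by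
  have h1 := pr_eq (K := K) hc
  rw [pr_append, pr_append] at h1
  have h2 : pr K [c, d] = pr K g * pr K [a, b] * (pr K g)⁻¹ := by rw [h1]; group
  rw [h2]
  exact mul_mem (mul_mem hg ha) (inv_mem hg)

omit [CharP K 2] in
theorem X_mem (e : ℕ) (u : K) : xG hF4 33 (u ^ e) * xG hF4 24 u ∈ twistedF4 K e := by
  have h : wordG hF4 [(33, u ^ e), (24, u)] ∈ twistedF4 K e :=
    subset_closure ⟨[(33, u ^ e), (24, u)], Or.inl ⟨u, Or.inl rfl⟩, coe_wordG hF4 _⟩
  rwa [wordG_cons, wordG_cons, wordG_nil, mul_one] at h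

omit [CharP K 2] in
theorem Y_mem (e : ℕ) (u : K) : xG hF4 14 (u ^ e) * xG hF4 23 u ∈ twistedF4 K e := by
  have h : wordG hF4 [(14, u ^ e), (23, u)] ∈ twistedF4 K e :=
    subset_closure ⟨[(14, u ^ e), (23, u)], Or.inl ⟨u, Or.inr rfl⟩, coe_wordG hF4 _⟩
  rwa [wordG_cons, wordG_cons, wordG_nil, mul_one] at h

omit [CharP K 2] in
theorem u₀_mem {e : ℕ} (he : e ≠ 0) : pr K u₀ ∈ twistedF4 K e := by
  have h : wordG hF4 (b2ClassWord e f4a f4b f4ab f4aab (0 : K) 1) ∈ twistedF4 K e :=
    subset_closure ⟨_, Or.inr ⟨0, 1, Or.inl rfl⟩, coe_wordG hF4 _⟩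
  have h1 : wordG hF4 (b2ClassWord e f4a f4b f4ab f4aab (0 : K) 1) = pr K u₀ := by
    unfold b2ClassWord pr u₀
    simp only [zero_pow he, zero_pow (Nat.succ_ne_zero e), zero_add, one_pow, wordG_cons, xG_zero, one_mul,
      List.map_cons, List.map_nil]
    rfl
  rwa [h1] at h

omit [CharP K 2] in
theorem v₀_mem {e : ℕ} (he : e ≠ 0) : pr K v₀ ∈ twistedF4 K e := by
  have h : wordG hF4 (b2ClassWord e f4ma f4mb f4mab f4maab (0 : K) 1) ∈ twistedF4 K e :=
    subset_closure ⟨_, Or.inr ⟨0, 1, Or.inr rfl⟩, coe_wordG hF4 _⟩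
  have h1 : wordG hF4 (b2ClassWord e f4ma f4mb f4mab f4maab (0 : K) 1) = pr K v₀ := by
    unfold b2ClassWord pr v₀
    simp only [zero_pow he, zero_pow (Nat.succ_ne_zero e), zero_add, one_pow, wordG_cons, xG_zero, one_mul,
      List.map_cons, List.map_nil]
    rfl
  rwa [h1] at h

theorem t_mem {e : ℕ} (he : e ≠ 0) : pr K [2, 8] ∈ twistedF4 K e := by
  have hn₂ : pr K n₂ ∈ twistedF4 K e := by
    have e1 : n₂ = u₀ ++ (v₀ ++ (u₀ ++ (v₀ ++ u₀))) := rfl
    rw [e1, pr_append, pr_append, pr_append, pr_append]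
    exact mul_mem (u₀_mem he) (mul_mem (v₀_mem he) (mul_mem (u₀_mem he) (mul_mem (v₀_mem he) (u₀_mem he))))
  have hn₁ : pr K n₁ ∈ twistedF4 K e := by
    have hX : pr K [33, 24] ∈ twistedF4 K e := by
      have := X_mem (K := K) e 1
      rwa [one_pow, ← pr_two] at this
    have hY : pr K [14, 23] ∈ twistedF4 K e := by
      have := Y_mem (K := K) e 1
      rwa [one_pow, ← pr_two] at this
    have h1 := pr_eq (K := K) chk_h
    rw [h1]
    have e1 : ([33, 24] ++ ([14, 23] ++ [33, 24]) : List ℕ) = [33, 24, 14, 23, 33, 24] := rfl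
    rw [← e1, pr_append, pr_append]
    exact mul_mem hX (mul_mem hY hX)
  have h0 : pr K [14, 23] ∈ twistedF4 K e := by
    have := Y_mem (K := K) e 1
    rwa [one_pow, ← pr_two] at this
  exact pair_conj chk_c hn₂ (pair_conj chk_b hn₁ (pair_conj chk_a hn₂ h0))

end

/-- two root elements are different when one commutes with `x_s(1)` and the other does not -/
theorem ne_of_terms {F : Type*} [Field F] [CharP F 2] {D : ChevalleyDatum} (hD : InList D) {r r' s k : ℕ}
    (h1 : (okOne D r s k && decide (k < D.nroots)) = true) (h2 : okComm D r' s = true) :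
    xG hD r (1 : F) ≠ xG hD r' 1 := by
  intro h
  rw [Bool.and_eq_true, decide_eq_true_eq] at h1
  have h3 := comm_of_one (F := F) hD h1.1
  have h4 := comm_of_ok (F := F) hD h2 1 1
  rw [h, h4] at h3
  have h5 : xG hD k (1 : F) = 1 := by
    have h6 : xG hD r' (1 : F) * xG hD s 1 * 1 = xG hD r' 1 * xG hD s 1 * xG hD k 1 := by
      rw [mul_one]; exact h3
    exact (mul_left_cancel h6).symm
  rw [xG_eq_one_iff hD h1.2] at h5
  exact one_ne_zero h5

open Cfsg.Agent.ChevalleyStructure.SL2Hom in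
/-- `²F₄(q)`, `q ≥ 8` -/
theorem nsc {K : Type*} [Field K] [Fintype K] {m : ℕ} (hm : 1 ≤ m)
    (hK : Fintype.card K = 2 ^ (2 * m + 1)) : NSC (twistedF4 K (2 ^ m)) := by
  have : CharP K 2 := ChevalleyStructure.F4Fixed.charP_two hK
  set θ := ChevalleyStructure.F4Fixed.theta hK with hθ
  have hθ2 : ∀ u : K, θ u = u ^ 2 ^ m := ChevalleyStructure.F4Fixed.theta_apply hK
  have he : 2 ^ m ≠ 0 := pow_ne_zero m two_ne_zero
  have hcard : 4 ≤ Nat.card K := by
    rw [Nat.card_eq_fintype_card, hK]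
    calc 4 ≤ 2 ^ 3 := by norm_num
      _ ≤ _ := Nat.pow_le_pow_right (by norm_num) (by omega)
  obtain ⟨f, hf, hf2⟩ := Cfsg.Agent.S1030.result (F := K) chevF4 hF4 33 (by decide +kernel)
  obtain ⟨g, hg, hg2⟩ := Cfsg.Agent.S1030.result (F := K) chevF4 hF4 24 (by decide +kernel)
  have n33 : chevF4.neg 33 = 14 := by decide +kernel
  have n24 : chevF4.neg 24 = 23 := by decide +kernel
  rw [n33] at hf hf2
  rw [n24] at hg hg2
  have fu : ∀ u : K, f (up u) = xG hF4 33 u := fun u => Units.ext ((hf2 (up u) u).1 rfl)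
  have fl : ∀ u : K, f (lo u) = xG hF4 14 u := fun u => Units.ext ((hf2 (lo u) u).2 rfl)
  have gu : ∀ u : K, g (up u) = xG hF4 24 u := fun u => Units.ext ((hg2 (up u) u).1 rfl)
  have gl : ∀ u : K, g (lo u) = xG hF4 23 u := fun u => Units.ext ((hg2 (lo u) u).2 rfl)
  have k1 : ∀ u v : K, xG hF4 24 v * xG hF4 33 u = xG hF4 33 u * xG hF4 24 v :=
    fun u v => comm_of_ok hF4 (r := 33) (s := 24) (by decide +kernel) u v
  have k2 : ∀ u v : K, xG hF4 23 v * xG hF4 33 u = xG hF4 33 u * xG hF4 23 v :=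
    fun u v => comm_of_ok hF4 (r := 33) (s := 23) (by decide +kernel) u v
  have k3 : ∀ u v : K, xG hF4 24 v * xG hF4 14 u = xG hF4 14 u * xG hF4 24 v :=
    fun u v => comm_of_ok hF4 (r := 14) (s := 24) (by decide +kernel) u v
  have k4 : ∀ u v : K, xG hF4 23 v * xG hF4 14 u = xG hF4 14 u * xG hF4 23 v :=
    fun u v => comm_of_ok hF4 (r := 14) (s := 23) (by decide +kernel) u v
  have hgen : ∀ (P : GL chevF4.Idx K → Prop) (h : Matrix.SpecialLinearGroup (Fin 2) K →* GL chevF4.Idx K)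
      (hP1 : ∀ u, P (h (up u))) (hP2 : ∀ u, P (h (lo u))) (hm : ∀ x y, P x → P y → P (x * y))
      (hi : ∀ x, P x → P x⁻¹) (h1 : P 1), ∀ x, P (h x) := by
    intro P h hP1 hP2 hm hi h1 x
    have hx := mem_closure_SL2 x
    induction hx using Subgroup.closure_induction with
    | mem y hy =>
      rcases hy with ⟨u, rfl⟩ | ⟨u, rfl⟩
      · exact hP1 u
      · exact hP2 u
    | one => rw [map_one]; exact h1
    | mul a b _ _ ha hb => rw [map_mul]; exact hm _ _ ha hb
    | inv a _ ha => rw [map_inv]; exact hi _ ha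
  have hcomm : ∀ x y, Commute (f x) (g y) := by
    intro x y
    refine hgen (fun z => Commute z (g y)) f ?_ ?_ (fun a b ha hb => ha.mul_left hb) (fun a ha => ha.inv_left)
      (Commute.one_left _) x
    · intro u
      refine hgen (fun z => Commute (f (up u)) z) g ?_ ?_ (fun a b ha hb => ha.mul_right hb)
        (fun a ha => ha.inv_right) (Commute.one_right _) y
      · intro v
        rw [fu, gu]; exact (k1 u v).symm
      · intro v
        rw [fu, gl]; exact (k2 u v).symm
    · intro u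
      refine hgen (fun z => Commute (f (lo u)) z) g ?_ ?_ (fun a b ha hb => ha.mul_right hb)
        (fun a ha => ha.inv_right) (Commute.one_right _) y
      · intro v
        rw [fl, gu]; exact (k3 u v).symm
      · intro v
        rw [fl, gl]; exact (k4 u v).symm
  let ψ : Matrix.SpecialLinearGroup (Fin 2) K →* GL chevF4.Idx K :=
    { toFun := fun x => f (Matrix.SpecialLinearGroup.map θ x) * g x
      map_one' := by rw [map_one, map_one, map_one, mul_one]
      map_mul' := fun x y => by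
        rw [map_mul, map_mul, map_mul]
        have h1 := (hcomm (Matrix.SpecialLinearGroup.map θ y) x).eq
        rw [mul_assoc, ← mul_assoc (f (Matrix.SpecialLinearGroup.map θ y)), h1]
        simp only [mul_assoc] }
  have hmu : ∀ u : K, Matrix.SpecialLinearGroup.map θ (up u) = up (θ u) := by
    intro u
    apply Subtype.ext
    change θ.mapMatrix !![1, u; 0, 1] = !![1, θ u; 0, 1]
    ext i j
    fin_cases i <;> fin_cases j <;> simp
  have hml : ∀ u : K, Matrix.SpecialLinearGroup.map θ (lo u) = lo (θ u) := by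
    intro u
    apply Subtype.ext
    change θ.mapMatrix !![1, 0; u, 1] = !![1, 0; θ u, 1]
    ext i j
    fin_cases i <;> fin_cases j <;> simp
  have ψu : ∀ u : K, ψ (up u) = xG hF4 33 (u ^ 2 ^ m) * xG hF4 24 u := by
    intro u
    change f (Matrix.SpecialLinearGroup.map θ (up u)) * g (up u) = _
    rw [hmu, fu, gu, hθ2]
  have ψl : ∀ u : K, ψ (lo u) = xG hF4 14 (u ^ 2 ^ m) * xG hF4 23 u := by
    intro u
    change f (Matrix.SpecialLinearGroup.map θ (lo u)) * g (lo u) = _
    rw [hml, fl, gl, hθ2]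
  have ψT : ψ.range ≤ twistedF4 K (2 ^ m) := by
    rintro _ ⟨x, rfl⟩
    refine hgen (fun z => z ∈ twistedF4 K (2 ^ m)) ψ ?_ ?_ (fun a b ha hb => mul_mem ha hb)
      (fun a ha => inv_mem ha) (one_mem _) x
    · intro u; rw [ψu]; exact X_mem _ u
    · intro u; rw [ψl]; exact Y_mem _ u
  have ψC : ψ.range ≤ centralizer ({pr K [2, 8]} : Set (GL chevF4.Idx K)) := by
    rintro _ ⟨x, rfl⟩
    refine hgen (fun z => z ∈ centralizer ({pr K [2, 8]} : Set (GL chevF4.Idx K))) ψ ?_ ?_
      (fun a b ha hb => mul_mem ha hb) (fun a ha => inv_mem ha) (one_mem _) x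
    · intro u
      rw [ψu]
      exact mul_mem (mem_centralizer_singleton_iff.2 (comm_of_chk1 chk_d _))
        (mem_centralizer_singleton_iff.2 (comm_of_chk1 chk_e _))
    · intro u
      rw [ψl]
      exact mul_mem (mem_centralizer_singleton_iff.2 (comm_of_chk1 chk_f _))
        (mem_centralizer_singleton_iff.2 (comm_of_chk1 chk_g _))
  have hne : ψ (up 1) ≠ 1 := by
    intro h
    rw [ψu, one_pow] at h
    have h3 : xG hF4 33 (1 : K) = xG hF4 24 1 := by
      rw [mul_eq_one_iff_eq_inv] at h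
      rw [h]
      exact inv_eq_of_mul_eq_one_left (sq_one hF4 24 1)
    exact ne_of_terms hF4 (s := 3) (k := 7) (by decide +kernel) (by decide +kernel) h3
  have hns : ¬ Group.IsSolvable ψ.range :=
    not_isSolvable_range (SignalizersComponents.SLQuasisimple.isQuasisimple_two hcard).1.commutator_eq_top ψ
      ⟨_, hne⟩
  have ht1 : pr K [2, 8] ≠ 1 := by
    intro h
    rw [pr_two] at h
    have h3 : xG hF4 2 (1 : K) = xG hF4 8 1 := by
      rw [mul_eq_one_iff_eq_inv] at h
      rw [h]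
      exact inv_eq_of_mul_eq_one_left (sq_one hF4 8 1)
    exact ne_of_terms hF4 (s := 21) (k := 0) (by decide +kernel) (by decide +kernel) h3
  have ht2 : pr K [2, 8] * pr K [2, 8] = 1 := by
    rw [← pr_append]
    have h1 := pr_eq (K := K) (v := [2, 8] ++ [2, 8]) (w := []) chk_i
    rw [h1]
    exact wordG_nil hF4
  refine NSC.of_hom (t := (⟨pr K [2, 8], t_mem he⟩ : twistedF4 K (2 ^ m))) ?_ ?_ (Subgroup.inclusion ψT) hns ?_ ?_
  · intro h
    exact ht1 (congrArg Subtype.val h)
  · exact Subtype.ext ht2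
  · rw [(MonoidHom.ker_eq_bot_iff _).2 (Subgroup.inclusion_injective ψT)]
    exact Group.isSolvable_of_comm (fun a b => Subsingleton.elim _ _)
  · intro x
    apply Subtype.ext
    exact mem_centralizer_singleton_iff.1 (ψC x.2)

end Cfsg.Agent.H517.TwFTwo
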