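import Cfsg.Agent.H517.NSX
import Cfsg.Agent.H517.PsuTwo

/-!
# `PSU_3(q)`, `q ≥ 4` even, has an element with a nonsolvable centralizer (helper517)

`diag(c, c, c⁻²)`, `c^(q+1) = 1`, `c³ ≠ 1`, commutes with the block `SU₂(q)`.
-/

set_option autoImplicit false

namespace Cfsg.Agent.H517.PsuThree

open Subgroup Matrix
open Cfsg Cfsg.Agent.LieClassical.HermBasic Cfsg.Agent.LieClassical.HermSiegel
open Cfsg.Agent.LieClassical.SUBasic Cfsg.Agent.KFacts.Unit

variable {F : Type*} [Field F] [Fintype F] {q : ℕ}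

theorem not_isSolvable_su [CharP F 2] (hF : Fintype.card F = q ^ 2) (hq : 4 ≤ q) : ¬ Group.IsSolvable (SU 2 F q) := by
  obtain ⟨m, _, hm⟩ := FiniteField.card F 2
  rw [hF] at hm
  have h1 : q ∣ 2 ^ (m : ℕ) := by rw [← hm]; exact dvd_pow_self q two_ne_zero
  obtain ⟨n, -, hn⟩ := (Nat.dvd_prime_pow Nat.prime_two).1 h1
  have hn0 : n ≠ 0 := by
    rintro rfl
    rw [pow_zero] at hn
    omega
  have : Fintype (GaloisField 2 n) := Fintype.ofFinite _
  have hcard : Fintype.card (GaloisField 2 n) = q := by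
    rw [← Nat.card_eq_fintype_card, GaloisField.card 2 n hn0, hn]
  obtain ⟨e⟩ := S0281.result hF hcard
  intro hs
  refine SignalizersComponents.ComponentExists.not_isSolvable_of_isQuasisimple
    (SignalizersComponents.SLQuasisimple.isQuasisimple_two (F := GaloisField 2 n)
    (by rw [Nat.card_eq_fintype_card, hcard]; exact hq)) ?_
  exact Group.isSolvable_of_surjective (f := e.toMonoidHom) e.surjective

theorem nsx [CharP F 2] (hF : Fintype.card F = q ^ 2) (hq : 4 ≤ q) : NSX (PSU 3 F q) := by
  classical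
  -- `c` of norm one, `c ^ 3 ≠ 1`
  obtain ⟨c, hc1, hc3⟩ : ∃ c : Fˣ, c ^ (q + 1) = 1 ∧ c ^ 3 ≠ 1 := by
    obtain ⟨g, hg⟩ := IsCyclic.exists_generator (α := Fˣ)
    have hcard : Nat.card Fˣ = (q - 1) * (q + 1) := by
      rw [Nat.card_units, Nat.card_eq_fintype_card, hF]
      obtain ⟨k, rfl⟩ := Nat.exists_eq_add_of_le hq
      have : 4 + k - 1 = 3 + k := by omega
      rw [this]
      have e : (4 + k) ^ 2 = (3 + k) * (4 + k + 1) + 1 := by ring
      omega
    have ho : orderOf g = (q - 1) * (q + 1) := by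
      rw [← hcard, orderOf_eq_card_of_forall_mem_zpowers hg]
    refine ⟨g ^ (q - 1), ?_, ?_⟩
    · rw [← pow_mul, ← ho, pow_orderOf_eq_one]
    · intro h
      rw [← pow_mul] at h
      have h1 := orderOf_dvd_of_pow_eq_one h
      rw [ho] at h1
      have h2 : q + 1 ∣ 3 := Nat.dvd_of_mul_dvd_mul_left (by omega) h1
      have := Nat.le_of_dvd (by norm_num) h2
      omega
  have hcF : (c : F) ^ (q + 1) = 1 := by
    have := congrArg Units.val hc1
    simpa using this
  have hc0 : (c : F) ≠ 0 := c.ne_zero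
  let a : Fin 3 → F := ![(c : F), c, ((c : F) ^ 2)⁻¹]
  have hprod : ∏ i, a i = 1 := by
    rw [Fin.prod_univ_three]
    simp only [a, cons_val_zero, cons_val_one, cons_val_two, tail_cons, head_cons]
    field_simp
  have hnorm : ∀ i, a i ^ (q + 1) = 1 := by
    intro i
    fin_cases i
    · exact hcF
    · exact hcF
    · change (((c : F) ^ 2)⁻¹) ^ (q + 1) = 1
      rw [inv_pow, ← pow_mul, mul_comm, pow_mul, hcF, one_pow, inv_one]
  let z : SU 3 F q := suDiag q a hprod hnorm
  have hz : z ∉ Subgroup.center (SU 3 F q) := by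
    intro h
    obtain ⟨d, hd1, hd2, hd⟩ := (mem_center_SU_iff hF le_rfl z).1 h
    have h1 := congrArg (fun A : SU 3 F q => ((A : Matrix.SpecialLinearGroup (Fin 3) F) : Matrix (Fin 3) (Fin 3) F)) hd
    simp only [z, coe_suDiag, coe_suScalar] at h1
    have h2 := congrFun (congrFun h1 0) 0
    have h3 := congrFun (congrFun h1 2) 2
    rw [Matrix.diagonal_apply_eq, Matrix.diagonal_apply_eq] at h2 h3
    change (c : F) = d at h2
    change ((c : F) ^ 2)⁻¹ = d at h3
    apply hc3
    apply Units.ext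
    rw [Units.val_pow_eq_pow_val, Units.val_one]
    have h4 : (c : F) * (c : F) ^ 2 = 1 := by
      nth_rewrite 1 [h2]
      rw [← h3]
      exact inv_mul_cancel₀ (pow_ne_zero 2 hc0)
    rw [pow_succ', h4]
  have hcomm : ∀ x : SU 2 F q, (emb 1 x : SU 3 F q) * z = z * emb 1 x := by
    intro x
    apply ext_act
    intro v
    rw [act_mul, act_mul]
    have hact : ∀ w : Fin 3 → F, act z w = fun i => a i * w i := by
      intro w
      funext i
      change (Matrix.diagonal a *ᵥ w) i = _
      rw [Matrix.mulVec_diagonal]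
    rw [hact, hact]
    apply ext_fin (m := 2) (d := 1)
    · intro i
      have e1 := act_emb_c (d := 1) x (fun i => a i * v i) i
      have e2 := act_emb_c (d := 1) x v i
      rw [e1]
      have e3 : a (Fin.castAdd 1 i) = c := by fin_cases i <;> rfl
      have e4 : (fun j : Fin 2 => a (Fin.castAdd 1 j) * v (Fin.castAdd 1 j)) =
          (c : F) • fun j : Fin 2 => v (Fin.castAdd 1 j) := by
        funext j
        have : a (Fin.castAdd 1 j) = c := by fin_cases j <;> rfl
        rw [this]
        rfl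
      rw [e4, act_smul, e3]
      change (c : F) * act x _ i = c * act (emb 1 x) v (Fin.castAdd 1 i)
      rw [e2]
    · intro i
      have e1 := act_emb_n (d := 1) x (fun i => a i * v i) i
      have e2 := act_emb_n (d := 1) x v i
      rw [e1, e2]
  exact NSX.of_proj (QuotientGroup.mk' _) (QuotientGroup.ker_mk' _) (not_isSolvable_su hF hq) (emb 1) emb_injective z hz
    hcomm

end Cfsg.Agent.H517.PsuThree
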