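import Cfsg.Agent.Lib.MinNormal
import Cfsg.Agent.Lib.SubnormalJoin

/-!
# S4101 from S4102 (helper517)

If every nonabelian finite simple group `T` has orders `a`, `b` such that an element of order `a` and one of order `b`
never generate a solvable group, then a finite group in which all pairs of classes have a solvable generating pair is
solvable.
-/

set_option autoImplicit false

namespace Cfsg.Agent.H517.Red4101

open Subgroup

universe u

/-- the conclusion of S4102 -/
def Pair (T : Type*) [Group T] : Prop :=
  ∃ a b : ℕ, (∃ x : T, orderOf x = a) ∧ (∃ y : T, orderOf y = b) ∧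
    ∀ x y : T, orderOf x = a → orderOf y = b → ¬ Group.IsSolvable (closure ({x, y} : Set T))

/-- the hypothesis of S4101 -/
def Hyp (G : Type*) [Group G] : Prop :=
  ∀ x y : G, ∃ g : G, Group.IsSolvable (closure ({x, g * y * g⁻¹} : Set G))

theorem isSolvable_closure_map {G H : Type*} [Group G] [Group H] (f : G →* H) {x y : G}
    (h : Group.IsSolvable (closure ({x, y} : Set G))) : Group.IsSolvable (closure ({f x, f y} : Set H)) := by
  have e : closure ({f x, f y} : Set H) = (closure ({x, y} : Set G)).map f := by
    rw [MonoidHom.map_closure, Set.image_pair]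
  rw [e]
  exact Group.isSolvable_of_surjective (f := (f.subgroupMap (closure ({x, y} : Set G))))
    (f.subgroupMap_surjective _)

theorem isSolvable_closure_of_map {G H : Type*} [Group G] [Group H] (f : G →* H) (hf : Function.Injective f) {x y : G}
    (h : Group.IsSolvable (closure ({f x, f y} : Set H))) : Group.IsSolvable (closure ({x, y} : Set G)) := by
  have e : closure ({f x, f y} : Set H) = (closure ({x, y} : Set G)).map f := by
    rw [MonoidHom.map_closure, Set.image_pair]
  rw [e] at h
  exact Group.isSolvable_of_isSolvable_injective (f := ((closure ({x, y} : Set G)).equivMapOfInjective f hf).toMonoidHom)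
    (MulEquiv.injective _)

theorem Hyp.map {G H : Type*} [Group G] [Group H] (f : G →* H) (hf : Function.Surjective f) (h : Hyp G) : Hyp H := by
  intro x y
  obtain ⟨x, rfl⟩ := hf x
  obtain ⟨y, rfl⟩ := hf y
  obtain ⟨g, hg⟩ := h x y
  refine ⟨f g, ?_⟩
  rw [← map_inv, ← map_mul, ← map_mul]
  exact isSolvable_closure_map f hg

/-- an epimorphism of a power of a nonabelian simple group onto it sends the diagonal elements to elements of the same
order -/
theorem orderOf_const {m : ℕ} {T : Type*} [Group T] [IsSimpleGroup T] (hna : ¬ IsMulCommutative T)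
    (f : (Fin m → T) →* T) (hf : Function.Surjective f) (t : T) : orderOf (f fun _ => t) = orderOf t := by
  classical
  -- the component maps
  let β : Fin m → (T →* T) := fun j => f.comp (MonoidHom.mulSingle (fun _ => T) j)
  have hn : ∀ j, (β j).range.Normal := by
    intro j
    constructor
    rintro _ ⟨x, rfl⟩ g
    obtain ⟨y, rfl⟩ := hf g
    refine ⟨y j * x * (y j)⁻¹, ?_⟩
    change f (Pi.mulSingle j (y j * x * (y j)⁻¹)) = f y * f (Pi.mulSingle j x) * (f y)⁻¹
    rw [← map_mul, ← map_inv, ← map_mul]
    congr 1
    funext i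
    by_cases hi : i = j
    · subst hi
      simp
    · simp [Pi.mulSingle_eq_of_ne hi]
  have hcases : ∀ j, (β j).range = ⊥ ∨ (β j).range = ⊤ := fun j => (hn j).eq_bot_or_eq_top
  have hcomm : ∀ i j, i ≠ j → ∀ x y, β i x * β j y = β j y * β i x := by
    intro i j hij x y
    change f (Pi.mulSingle i x) * f (Pi.mulSingle j y) = f (Pi.mulSingle j y) * f (Pi.mulSingle i x)
    rw [← map_mul, ← map_mul]
    congr 1
    exact (Pi.mulSingle_commute (f := fun _ : Fin m => T) hij x y).eq
  have hex : ∃ j, (β j).range = ⊤ := by
    by_contra hcon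
    push Not at hcon
    have h1 : ∀ j x, β j x = 1 := by
      intro j x
      have h2 : β j x ∈ (β j).range := ⟨x, rfl⟩
      rw [(hcases j).resolve_right (hcon j), mem_bot] at h2
      exact h2
    have h3 : ∀ y, y ∈ f.ker := fun y => Subgroup.pi_mem_of_mulSingle_mem y (fun i => h1 i (y i))
    obtain ⟨a, ha⟩ := exists_ne (1 : T)
    obtain ⟨y, hy⟩ := hf a
    exact ha (by rw [← hy]; exact h3 y)
  obtain ⟨j, hj⟩ := hex
  have hother : ∀ i, i ≠ j → ∀ x, β i x = 1 := by
    intro i hij x
    rcases hcases i with h | h
    · have h2 : β i x ∈ (β i).range := ⟨x, rfl⟩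
      rwa [h, mem_bot] at h2
    · exfalso
      apply hna
      refine ⟨⟨fun a b => ?_⟩⟩
      obtain ⟨a, rfl⟩ : a ∈ (β i).range := by rw [h]; exact mem_top a
      obtain ⟨b, rfl⟩ : b ∈ (β j).range := by rw [hj]; exact mem_top b
      exact hcomm i j hij a b
  have hinj : Function.Injective (β j) := by
    rw [← MonoidHom.ker_eq_bot_iff]
    rcases (inferInstance : (β j).ker.Normal).eq_bot_or_eq_top with h | h
    · exact h
    · exfalso
      obtain ⟨a, ha⟩ := exists_ne (1 : T)
      obtain ⟨b, hb⟩ : a ∈ (β j).range := by rw [hj]; exact mem_top a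
      have : b ∈ (β j).ker := by rw [h]; exact mem_top b
      exact ha (by rw [← hb]; exact this)
  have key : f (fun _ => t) = β j t := by
    have h1 : (fun _ => t) * (Pi.mulSingle j t)⁻¹ ∈ f.ker := by
      apply Subgroup.pi_mem_of_mulSingle_mem
      intro i
      by_cases hi : i = j
      · subst hi
        simp
      · exact hother i hi _
    rw [MonoidHom.mem_ker, map_mul, map_inv, mul_inv_eq_one] at h1
    exact h1
  rw [key]
  exact orderOf_injective (β j) hinj t

/-- a minimal normal subgroup of a group with (Hyp) is solvable -/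
theorem solvable_min {G : Type u} [Group G] [Finite G]
    (hP : ∀ (T : Type u) [Group T] [Finite T] [IsSimpleGroup T], ¬ IsMulCommutative T → Pair T) (h : Hyp G)
    (N : Subgroup G) [N.Normal] (hN : N ≠ ⊥) (hmin : ∀ M : Subgroup G, M.Normal → M ≤ N → M = ⊥ ∨ M = N) :
    Group.IsSolvable N := by
  obtain ⟨T, m, -, hT, hm, ⟨e⟩⟩ := Lib.MinNormal.exists_mulEquiv_pi N hN hmin
  by_cases hna : IsMulCommutative T
  · apply Group.isSolvable_of_comm
    intro a b
    apply e.injective
    rw [map_mul, map_mul]
    funext i
    exact hna.is_comm.comm _ _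
  exfalso
  obtain ⟨a, b, ⟨s, hs⟩, ⟨t, ht⟩, hab⟩ := hP T hna
  let x : N := e.symm fun _ => s
  let y : N := e.symm fun _ => t
  obtain ⟨g, hg⟩ := h x y
  let i0 : Fin m := ⟨0, hm⟩
  let π : N →* T := (Pi.evalMonoidHom (fun _ : Fin m => T) i0).comp e.toMonoidHom
  have hπ : Function.Surjective π := by
    intro u
    refine ⟨e.symm fun _ => u, ?_⟩
    change e (e.symm fun _ => u) i0 = u
    rw [e.apply_symm_apply]
  let c : N ≃* N := MulAut.conjNormal g
  have hc : ((c y : N) : G) = g * y * g⁻¹ := MulAut.conjNormal_apply g y
  have h1 : Group.IsSolvable (closure ({N.subtype x, N.subtype (c y)} : Set G)) := by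
    change Group.IsSolvable (closure ({(x : G), ((c y : N) : G)} : Set G))
    rw [hc]; exact hg
  have h2 := isSolvable_closure_map π (isSolvable_closure_of_map N.subtype N.subtype_injective h1)
  have hx : orderOf (π x) = a := by
    have : π x = s := by
      change e (e.symm fun _ => s) i0 = s
      rw [e.apply_symm_apply]
    rw [this, hs]
  have hy : orderOf (π (c y)) = b := by
    have h3 := orderOf_const hna ((π.comp c.toMonoidHom).comp e.symm.toMonoidHom)
      ((hπ.comp c.surjective).comp e.symm.surjective) t
    rw [ht] at h3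
    exact h3
  exact hab _ _ hx hy h2

/-- **S4101 from S4102.** -/
theorem main (hP : ∀ (T : Type u) [Group T] [Finite T] [IsSimpleGroup T], ¬ IsMulCommutative T → Pair T) :
    ∀ (n : ℕ) (G : Type u) [Group G] [Finite G], Nat.card G ≤ n → Hyp G → Group.IsSolvable G := by
  intro n
  induction n with
  | zero =>
    intro G _ _ h
    have := Nat.card_pos (α := G)
    omega
  | succ n ih =>
    intro G _ _ hn h
    rcases subsingleton_or_nontrivial G with hs | hs
    · exact Group.isSolvable_of_comm fun a b => Subsingleton.elim _ _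
    obtain ⟨N, hNn, hN, hmin⟩ := Lib.SubnormalJoin.exists_minimal_normal G
    have h1 := solvable_min hP h N hN hmin
    have h2 : Group.IsSolvable (G ⧸ N) := by
      apply ih
      · have h3 := Subgroup.card_eq_card_quotient_mul_card_subgroup N
        have h4 : 1 < Nat.card N := (Subgroup.one_lt_card_iff_ne_bot N).2 hN
        have h5 : 0 < Nat.card (G ⧸ N) := Nat.card_pos
        nlinarith
      · exact h.map (QuotientGroup.mk' N) (QuotientGroup.mk'_surjective N)
    exact Group.isSolvable_of_ker_le_range N.subtype (QuotientGroup.mk' N) (by simp)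

end Cfsg.Agent.H517.Red4101
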